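import Cfsg.Agent.Lib.Fusion.GroupSystem

/-!
# A criterion for the fusion system of a group to be simple

If a Sylow `2`-subgroup `S` of `G` is self-normalizing and has no proper non-trivial subgroup closed
under `G`-conjugation into `S`, then the fusion system of `G` on `S` is simple.  The two hypotheses
can be checked on any one Sylow subgroup.
-/

set_option autoImplicit false

namespace Cfsg.Agent.Lib.FusionSimple.Basic

open Cfsg Cfsg.FusionSystem

variable {G : Type*} [Group G] [Finite G]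

/-- Strong closure, element by element. -/
theorem closed_of_stronglyClosed {S T : Subgroup G} (h : (groupFusionSystem S).StronglyClosed T) :
    ∀ x ∈ T, ∀ g : G, g * x * g⁻¹ ∈ S → g * x * g⁻¹ ∈ T := by
  intro x hx g hg
  have hxS : x ∈ S := h.1 hx
  have hz : Subgroup.zpowers x ≤ T := (Subgroup.zpowers_le).2 hx
  have hzS : Subgroup.zpowers x ≤ S := hz.trans h.1
  have hφ : conjHom (Subgroup.zpowers x) g ∈ (groupFusionSystem S).Hom (Subgroup.zpowers x) := by
    refine ⟨hzS, ?_, g, fun y => rfl⟩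
    rintro ⟨y, hy⟩
    obtain ⟨k, rfl⟩ := Subgroup.mem_zpowers_iff.1 hy
    show g * x ^ k * g⁻¹ ∈ S
    have : g * x ^ k * g⁻¹ = (g * x * g⁻¹) ^ k := by
      simp [conj_zpow]
    rw [this]
    exact S.zpow_mem hg k
  exact h.2 _ hz _ hφ ⟨x, Subgroup.mem_zpowers x⟩

/-- `Aut_F(S)` consists of conjugations by elements of `S` when `S` is self-normalizing. -/
theorem exists_conj_of_mem_autGroup {S : Subgroup G}
    (hN : ∀ g : G, (∀ s ∈ S, g * s * g⁻¹ ∈ S) → g ∈ S) {α : MulAut S}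
    (hα : α ∈ (groupFusionSystem S).autGroup S) :
    ∃ s ∈ S, ∀ x : S, ((α x : S) : G) = s * (x : G) * s⁻¹ := by
  induction hα using Subgroup.closure_induction with
  | mem α hα =>
    obtain ⟨-, -, g, hg⟩ := hα
    refine ⟨g, hN g ?_, fun x => hg x⟩
    intro s hs
    have := hg ⟨s, hs⟩
    rw [← show _ = g * s * g⁻¹ from this]
    exact (α ⟨s, hs⟩).2
  | one => exact ⟨1, S.one_mem, fun x => by simp⟩
  | mul α β _ _ hα hβ =>
    obtain ⟨a, ha, hα⟩ := hα
    obtain ⟨b, hb, hβ⟩ := hβ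
    refine ⟨a * b, S.mul_mem ha hb, fun x => ?_⟩
    show ((α (β x) : S) : G) = _
    rw [hα, hβ]
    group
  | inv α _ hα =>
    obtain ⟨a, ha, hα⟩ := hα
    refine ⟨a⁻¹, S.inv_mem ha, fun x => ?_⟩
    have h := hα (α⁻¹ x)
    rw [MulAut.apply_inv_self] at h
    rw [h]
    group

theorem simple_of_selfNormalizing (S : Sylow 2 G) (hS1 : (S : Subgroup G) ≠ ⊥)
    (hN : ∀ g : G, (∀ s ∈ (S : Subgroup G), g * s * g⁻¹ ∈ (S : Subgroup G)) → g ∈ (S : Subgroup G))
    (hT : ∀ T : Subgroup G, T ≤ S → T ≠ ⊥ →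
      (∀ x ∈ T, ∀ g : G, g * x * g⁻¹ ∈ (S : Subgroup G) → g * x * g⁻¹ ∈ T) → T = S) :
    (groupFusionSystem (S : Subgroup G)).IsSimple 2 := by
  refine ⟨Cfsg.Agent.Lib.Fusion.GroupSystem.isSaturated S, hS1, ?_⟩
  intro T E hE
  obtain ⟨⟨-, -, hsub, hsc, -, hfr⟩, -⟩ := hE
  by_cases hbot : T = ⊥
  · exact Or.inl hbot
  right
  have hTS : T = S := hT T hsc.1 hbot (closed_of_stronglyClosed hsc)
  subst hTS
  refine ⟨rfl, fun P => Set.Subset.antisymm (hsub P) ?_⟩
  intro φ hφ
  have hP : P ≤ (S : Subgroup G) := ((groupFusionSystem (S : Subgroup G)).le_of_mem hφ).1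
  obtain ⟨α, hα, φ₀, hφ₀, hfac⟩ := hfr P hP φ hφ
  obtain ⟨s, hs, hαs⟩ := exists_conj_of_mem_autGroup hN hα
  have hφ₀S : ∀ x : P, φ₀ x ∈ (S : Subgroup G) := (E.le_of_mem hφ₀).2
  have hc := E.comp_mem hφ₀ (E.conj_mem (le_refl (S : Subgroup G)) hs) hφ₀S
  convert hc using 1
  ext x
  rw [hfac x (hφ₀S x), hαs]
  rfl


theorem mem_smul_sylow {c x : G} {P : Sylow 2 G} :
    x ∈ ((c • P : Sylow 2 G) : Subgroup G) ↔ c⁻¹ * x * c ∈ (P : Subgroup G) := by
  rw [Sylow.coe_subgroup_smul, Subgroup.mem_pointwise_smul_iff_inv_smul_mem]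
  show (MulAut.conj c)⁻¹ x ∈ _ ↔ _
  simp [MulAut.conj_inv_apply]

/-- The two hypotheses on one Sylow subgroup give simplicity on all of them. -/
theorem simple_of_one_sylow (S₁ : Sylow 2 G) (hS1 : (S₁ : Subgroup G) ≠ ⊥)
    (hN : ∀ g : G, (∀ s ∈ (S₁ : Subgroup G), g * s * g⁻¹ ∈ (S₁ : Subgroup G)) → g ∈ (S₁ : Subgroup G))
    (hT : ∀ T : Subgroup G, T ≤ S₁ → T ≠ ⊥ →
      (∀ x ∈ T, ∀ g : G, g * x * g⁻¹ ∈ (S₁ : Subgroup G) → g * x * g⁻¹ ∈ T) → T = S₁)
    (S : Sylow 2 G) : (groupFusionSystem (S : Subgroup G)).IsSimple 2 := by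
  obtain ⟨c, rfl⟩ := MulAction.exists_smul_eq G S₁ S
  apply simple_of_selfNormalizing
  · intro h
    apply hS1
    rw [eq_bot_iff]
    intro x hx
    have h1 : c * x * c⁻¹ ∈ ((c • S₁ : Sylow 2 G) : Subgroup G) := by
      rw [mem_smul_sylow]
      simpa [mul_assoc] using hx
    rw [h, Subgroup.mem_bot] at h1
    rw [Subgroup.mem_bot]
    have h2 : c * x = c := by
      rw [mul_inv_eq_one] at h1
      exact h1
    exact mul_left_cancel (h2.trans (mul_one c).symm)
  · intro g hg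
    rw [mem_smul_sylow]
    apply hN
    intro s hs
    have hs' : c * s * c⁻¹ ∈ ((c • S₁ : Sylow 2 G) : Subgroup G) := by
      rw [mem_smul_sylow]
      simpa [mul_assoc] using hs
    have h1 := hg _ hs'
    rw [mem_smul_sylow] at h1
    have e : c⁻¹ * (g * (c * s * c⁻¹) * g⁻¹) * c = c⁻¹ * g * c * s * (c⁻¹ * g * c)⁻¹ := by group
    rw [e] at h1
    exact h1
  · intro T hTS hT1 hcl
    let T' : Subgroup G := T.map (MulAut.conj c⁻¹).toMonoidHom
    have memT' : ∀ x, x ∈ T' ↔ c * x * c⁻¹ ∈ T := by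
      intro x
      constructor
      · rintro ⟨y, hy, rfl⟩
        have : c * ((MulAut.conj c⁻¹).toMonoidHom y) * c⁻¹ = y := by
          simp [MulAut.conj_apply, mul_assoc]
        rw [this]
        exact hy
      · intro hx
        refine ⟨_, hx, ?_⟩
        simp [MulAut.conj_apply, mul_assoc]
    have hT'S : T' ≤ S₁ := by
      intro x hx
      have h1 := hTS ((memT' x).1 hx)
      rw [mem_smul_sylow] at h1
      simpa [mul_assoc] using h1
    have hT'ne : T' ≠ ⊥ := by
      intro h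
      apply hT1
      rw [eq_bot_iff]
      intro y hy
      have : c⁻¹ * y * c ∈ T' := by
        rw [memT']
        simpa [mul_assoc] using hy
      rw [h, Subgroup.mem_bot] at this
      rw [Subgroup.mem_bot]
      have h2 : y * c = c := by
        rw [mul_assoc, inv_mul_eq_one] at this
        exact this.symm
      exact mul_right_cancel (h2.trans (one_mul c).symm)
    have hT'eq := hT T' hT'S hT'ne (by
      intro x hx g hg
      rw [memT']
      have hx' := (memT' x).1 hx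
      have e : c * (g * x * g⁻¹) * c⁻¹ = (c * g * c⁻¹) * (c * x * c⁻¹) * (c * g * c⁻¹)⁻¹ := by group
      rw [e]
      apply hcl _ hx'
      rw [← e, mem_smul_sylow]
      simpa [mul_assoc] using hg)
    ext x
    constructor
    · exact fun hx => hTS hx
    · intro hx
      rw [mem_smul_sylow] at hx
      have h1 : c⁻¹ * x * c ∈ T' := by rw [hT'eq]; exact hx
      have h2 := (memT' _).1 h1
      simpa [mul_assoc] using h2

end Cfsg.Agent.Lib.FusionSimple.Basic

namespace Cfsg.Agent.Lib.FusionSimple.Basic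

open Cfsg

/-- Ambient form: `M` a finite subgroup of `Γ`, `S₁ ≤ M` a subgroup of order `2 ^ k`, of odd index. -/
theorem simple_of_ambient {Γ : Type*} [Group Γ] (M S₁ : Subgroup Γ) [Finite M] (hle : S₁ ≤ M) {k m : ℕ}
    (hcard : Nat.card S₁ = 2 ^ k) (hM : Nat.card M = 2 ^ k * m) (hm : Odd m) (hne : S₁ ≠ ⊥)
    (hN : ∀ g ∈ M, (∀ s ∈ S₁, g * s * g⁻¹ ∈ S₁) → g ∈ S₁)
    (hT : ∀ T : Subgroup Γ, T ≤ S₁ → T ≠ ⊥ → (∀ x ∈ T, ∀ g ∈ M, g * x * g⁻¹ ∈ S₁ → g * x * g⁻¹ ∈ T) → T = S₁)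
    (S : Sylow 2 M) : (groupFusionSystem (S : Subgroup M)).IsSimple 2 := by
  have hfac : (Nat.card M).factorization 2 = k := by
    have hm0 : m ≠ 0 := by
      rintro rfl
      simp at hm
    rw [hM, Nat.factorization_mul (by positivity) hm0, Nat.Prime.factorization_pow Nat.prime_two]
    have : m.factorization 2 = 0 := Nat.factorization_eq_zero_of_not_dvd (by
      intro h
      exact (Nat.not_even_iff_odd.2 hm) (even_iff_two_dvd.2 h))
    simp [this]
  have hc : Nat.card (S₁.subgroupOf M) = 2 ^ (Nat.card M).factorization 2 := by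
    rw [hfac, ← hcard]
    exact Nat.card_congr (Subgroup.subgroupOfEquivOfLe hle).toEquiv
  let P : Sylow 2 M := Sylow.ofCard (S₁.subgroupOf M) hc
  have memP : ∀ x : M, x ∈ (P : Subgroup M) ↔ (x : Γ) ∈ S₁ := by
    intro x
    rw [Sylow.coe_ofCard, Subgroup.mem_subgroupOf]
  refine simple_of_one_sylow P ?_ ?_ ?_ S
  · intro h
    apply hne
    rw [eq_bot_iff]
    intro x hx
    have h1 : (⟨x, hle hx⟩ : M) ∈ (P : Subgroup M) := (memP _).2 hx
    rw [h, Subgroup.mem_bot] at h1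
    rw [Subgroup.mem_bot]
    exact congrArg Subtype.val h1
  · intro g hg
    rw [memP]
    apply hN g g.2
    intro s hs
    have h1 := hg ⟨s, hle hs⟩ ((memP _).2 hs)
    rw [memP] at h1
    exact h1
  · intro T hTP hT1 hcl
    have hT' := hT (T.map M.subtype) ?_ ?_ ?_
    · ext x
      constructor
      · exact fun hx => hTP hx
      · intro hx
        have h1 : (x : Γ) ∈ T.map M.subtype := by
          rw [hT']
          exact (memP x).1 hx
        obtain ⟨y, hy, hyx⟩ := h1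
        have : y = x := Subtype.ext hyx
        rwa [← this]
    · rintro _ ⟨y, hy, rfl⟩
      exact (memP y).1 (hTP hy)
    · intro h
      apply hT1
      rw [eq_bot_iff]
      intro y hy
      have h1 : (y : Γ) ∈ T.map M.subtype := ⟨y, hy, rfl⟩
      rw [h, Subgroup.mem_bot] at h1
      rw [Subgroup.mem_bot]
      exact Subtype.ext h1
    · rintro _ ⟨y, hy, rfl⟩ g hg hgy
      have h1 : (⟨g, hg⟩ : M) * y * (⟨g, hg⟩ : M)⁻¹ ∈ (P : Subgroup M) := by
        rw [memP]
        exact hgy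
      exact ⟨_, hcl y hy ⟨g, hg⟩ h1, rfl⟩

end Cfsg.Agent.Lib.FusionSimple.Basic
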